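import Mathlib
import Groth.Prelude.Def_HopfRep

/-!
# Helper24 — the (left) coradical-type filtration of a bialgebra over an arbitrary base ring

`δ a = Δ a - 1 ⊗ a`, `L 0 = R·1`, `a ∈ L (s+1)` iff `δ a ∈ H ⊗ L s` (image).  Monotone, and
compatible with base change `H → S ⊗ H`.
-/

set_option autoImplicit false
universe u u' v

open TensorProduct Coalgebra

namespace Groth.Agent.Lib.Helper24.UnipSpec

section General
variable (R : Type u) [CommRing R] (H : Type v) [CommRing H] [Bialgebra R H]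

/-- reduced coproduct `δ a = Δ a - 1 ⊗ a` -/
noncomputable def δ : H →ₗ[R] H ⊗[R] H :=
  comul - TensorProduct.mk R H H 1

theorem δ_apply (a : H) : δ R H a = comul (R := R) a - (1 : H) ⊗ₜ[R] a := rfl

theorem δ_one : δ R H 1 = 0 := by
  rw [δ_apply, Bialgebra.comul_one, Algebra.TensorProduct.one_def, sub_self]

/-- the filtration -/
noncomputable def L : ℕ → Submodule R H
  | 0 => Submodule.span R {(1 : H)}
  | s + 1 => (LinearMap.range (LinearMap.lTensor H (L s).subtype)).comap (δ R H)

theorem L_zero : L R H 0 = Submodule.span R {(1 : H)} := rfl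

variable {R H}

theorem mem_L_succ {s : ℕ} {a : H} :
    a ∈ L R H (s + 1) ↔ δ R H a ∈ LinearMap.range (LinearMap.lTensor H (L R H s).subtype) :=
  Iff.rfl

theorem one_mem_L (s : ℕ) : (1 : H) ∈ L R H s := by
  cases s with
  | zero => exact Submodule.mem_span_singleton_self 1
  | succ s =>
    rw [mem_L_succ, δ_one]
    exact zero_mem _

theorem range_lTensor_mono {P Q : Submodule R H} (h : P ≤ Q) :
    LinearMap.range (LinearMap.lTensor H P.subtype) ≤
      LinearMap.range (LinearMap.lTensor H Q.subtype) := by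
  rintro _ ⟨y, rfl⟩
  refine ⟨LinearMap.lTensor H (Submodule.inclusion h) y, ?_⟩
  rw [← LinearMap.comp_apply, ← LinearMap.lTensor_comp]
  rfl

theorem L_le_succ (s : ℕ) : L R H s ≤ L R H (s + 1) := by
  induction s with
  | zero =>
    intro a ha
    obtain ⟨c, rfl⟩ := Submodule.mem_span_singleton.mp ha
    exact Submodule.smul_mem _ _ (one_mem_L 1)
  | succ s ih =>
    intro a ha
    rw [mem_L_succ] at ha ⊢
    exact range_lTensor_mono ih ha

theorem L_mono : Monotone (L R H) := monotone_nat_of_le_succ L_le_succ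

end General

section BaseChange
variable {R : Type u} [CommRing R] (S : Type u') [CommRing S] [Algebra R S]
  {H : Type v} [CommRing H] [Bialgebra R H]

/-- `a ⊗ b ↦ (1 ⊗ a) ⊗ (1 ⊗ b)` -/
noncomputable def inclTT : H ⊗[R] H →ₗ[R] (S ⊗[R] H) ⊗[S] (S ⊗[R] H) :=
  TensorProduct.lift
    (LinearMap.mk₂ R (fun a b => ((1 : S) ⊗ₜ[R] a) ⊗ₜ[S] ((1 : S) ⊗ₜ[R] b))
      (fun a a' b => by rw [TensorProduct.tmul_add, TensorProduct.add_tmul])
      (fun c a b => by rw [TensorProduct.tmul_smul, ← TensorProduct.smul_tmul'])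
      (fun a b b' => by rw [TensorProduct.tmul_add, TensorProduct.tmul_add])
      (fun c a b => by rw [TensorProduct.tmul_smul, TensorProduct.tmul_smul]))

@[simp]
theorem inclTT_tmul (a b : H) :
    inclTT S (a ⊗ₜ[R] b) = ((1 : S) ⊗ₜ[R] a) ⊗ₜ[S] ((1 : S) ⊗ₜ[R] b) := by
  simp [inclTT]

theorem comul_incl (a : H) :
    comul (R := S) ((1 : S) ⊗ₜ[R] a) = inclTT S (comul (R := R) a) := by
  rw [TensorProduct.comul_tmul, CommSemiring.comul_apply]
  generalize comul (R := R) a = t
  induction t using TensorProduct.induction_on with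
  | zero => simp
  | tmul a₁ a₂ =>
    rw [TensorProduct.AlgebraTensorModule.tensorTensorTensorComm_tmul, inclTT_tmul]
  | add y z hy hz => rw [TensorProduct.tmul_add, map_add, map_add, hy, hz]

theorem δ_incl (a : H) :
    δ S (S ⊗[R] H) ((1 : S) ⊗ₜ[R] a) = inclTT S (δ R H a) := by
  rw [δ_apply, δ_apply, comul_incl, map_sub, inclTT_tmul, Algebra.TensorProduct.one_def]

theorem inclTT_mem_range {P : Submodule R H} {P' : Submodule S (S ⊗[R] H)}
    (h : ∀ a ∈ P, (1 : S) ⊗ₜ[R] a ∈ P') {t : H ⊗[R] H}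
    (ht : t ∈ LinearMap.range (LinearMap.lTensor H P.subtype)) :
    inclTT S t ∈ LinearMap.range (LinearMap.lTensor (S ⊗[R] H) P'.subtype) := by
  obtain ⟨y, rfl⟩ := ht
  induction y using TensorProduct.induction_on with
  | zero => simp
  | tmul b c =>
    refine ⟨((1 : S) ⊗ₜ[R] b) ⊗ₜ[S] (⟨(1 : S) ⊗ₜ[R] (c : H), h c c.2⟩ : P'), ?_⟩
    simp
  | add y z hy hz =>
    rw [map_add, map_add]
    exact add_mem hy hz

/-- the filtration is compatible with base change -/
theorem incl_mem_L : ∀ (s : ℕ) {a : H}, a ∈ L R H s → (1 : S) ⊗ₜ[R] a ∈ L S (S ⊗[R] H) s := by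
  intro s
  induction s with
  | zero =>
    intro a ha
    obtain ⟨c, rfl⟩ := Submodule.mem_span_singleton.mp ha
    rw [L_zero]
    refine Submodule.mem_span_singleton.mpr ⟨algebraMap R S c, ?_⟩
    rw [Algebra.TensorProduct.one_def, TensorProduct.smul_tmul', TensorProduct.tmul_smul,
      TensorProduct.smul_tmul', smul_eq_mul, mul_one, Algebra.algebraMap_eq_smul_one]
  | succ s ih =>
    intro a ha
    rw [mem_L_succ] at ha ⊢
    rw [δ_incl]
    exact inclTT_mem_range S (fun a ha => ih ha) ha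

end BaseChange

end Groth.Agent.Lib.Helper24.UnipSpec
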