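import Mathlib
import Groth.Agent.Lib.Helper24.UnipSpec.Fil

/-!
# Helper24 — saturation: for `H` flat over a domain `R` with fraction field `K`,
`1 ⊗ h ∈ L K (K ⊗ H) s` implies `h ∈ L R H s`.
-/

set_option autoImplicit false
universe u u' v

open TensorProduct Coalgebra

namespace Groth.Agent.Lib.Helper24.UnipSpec

section
variable {R : Type u} [CommRing R] [IsDomain R] (K : Type u') [Field K] [Algebra R K]
  [IsFractionRing R K] {H : Type v} [CommRing H] [Bialgebra R H] [Module.Flat R H]

/-- `h ↦ 1 ⊗ h` -/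
noncomputable def incl : H →ₗ[R] K ⊗[R] H := TensorProduct.mk R K H 1

@[simp] theorem incl_apply (h : H) : incl K h = (1 : K) ⊗ₜ[R] h := rfl

theorem incl_injective : Function.Injective (incl (R := R) K (H := H)) := by
  have h1 : Function.Injective (LinearMap.rTensor H (Algebra.linearMap R K)) :=
    Module.Flat.rTensor_preserves_injective_linearMap _ (IsFractionRing.injective R K)
  have h2 : incl (R := R) K (H := H) =
      LinearMap.rTensor H (Algebra.linearMap R K) ∘ₗ (TensorProduct.lid R H).symm.toLinearMap := by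
    ext h
    simp
  rw [h2]
  exact h1.comp (TensorProduct.lid R H).symm.injective

include K in
theorem smul_eq_zero_imp {b : R} (hb : b ≠ 0) {y : H} (h : b • y = 0) : y = 0 := by
  apply incl_injective (R := R) K
  rw [map_zero]
  have h1 : algebraMap R K b • incl (R := R) K y = 0 := by
    rw [algebraMap_smul, ← map_smul, h, map_zero]
  rcases smul_eq_zero.mp h1 with h2 | h2
  · exact absurd ((map_eq_zero_iff _ (IsFractionRing.injective R K)).mp h2) hb
  · exact h2

theorem mem_L_zero_of_incl {h : H} (hh : (1 : K) ⊗ₜ[R] h ∈ L K (K ⊗[R] H) 0) : h ∈ L R H 0 := by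
  rw [L_zero] at hh ⊢
  obtain ⟨c, hc⟩ := Submodule.mem_span_singleton.mp hh
  obtain ⟨⟨a, b⟩, hab⟩ := IsLocalization.mk'_surjective (nonZeroDivisors R) c
  have hb : (b : R) ≠ 0 := nonZeroDivisors.ne_zero b.2
  have h1 : algebraMap R K b * c = algebraMap R K a := by
    rw [← hab]
    exact IsLocalization.mk'_spec' K a b
  have h2 : (1 : K) ⊗ₜ[R] ((b : R) • h) = (1 : K) ⊗ₜ[R] (a • (1 : H)) := by
    rw [TensorProduct.tmul_smul, TensorProduct.tmul_smul, ← hc, ← algebraMap_smul K (b : R),
      smul_smul, h1, algebraMap_smul, Algebra.TensorProduct.one_def]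
  have h3 : (b : R) • h = a • (1 : H) := incl_injective K h2
  have h4 : (b : R) * counit (R := R) h = a := by
    have := congrArg (counit (R := R)) h3
    rw [map_smul, map_smul, Bialgebra.counit_one, smul_eq_mul, smul_eq_mul, mul_one] at this
    exact this
  have h5 : (b : R) • (h - counit (R := R) h • (1 : H)) = 0 := by
    rw [smul_sub, smul_smul, h4, h3, sub_self]
  have h6 := smul_eq_zero_imp K hb h5
  refine Submodule.mem_span_singleton.mpr ⟨counit (R := R) h, ?_⟩
  exact (sub_eq_zero.mp h6).symm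

end

section Step
variable {R : Type u} [CommRing R] [IsDomain R] (K : Type u') [Field K] [Algebra R K]
  [IsFractionRing R K] {H : Type v} [CommRing H] [Bialgebra R H] [Module.Flat R H]
  (s : ℕ)

/-- the quotient of the generic fibre by the `s`-th step -/
abbrev Q' : Type _ := (K ⊗[R] H) ⧸ L K (K ⊗[R] H) s

/-- `H → (K ⊗ H) / L_s` -/
noncomputable def toQ' : H →ₗ[R] Q' (R := R) K (H := H) s :=
  ((L K (K ⊗[R] H) s).mkQ.restrictScalars R) ∘ₗ incl K

theorem toQ'_apply (h : H) :
    toQ' (R := R) K s h = (L K (K ⊗[R] H) s).mkQ ((1 : K) ⊗ₜ[R] h) := rfl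

theorem L_le_ker_toQ' : L R H s ≤ LinearMap.ker (toQ' (R := R) K (H := H) s) := by
  intro a ha
  rw [LinearMap.mem_ker, toQ'_apply, Submodule.mkQ_apply, Submodule.Quotient.mk_eq_zero]
  exact incl_mem_L K s ha

/-- `H / L_s → (K ⊗ H) / L_s` -/
noncomputable def qbar : (H ⧸ L R H s) →ₗ[R] Q' (R := R) K (H := H) s :=
  (L R H s).liftQ (toQ' K s) (L_le_ker_toQ' K s)

theorem qbar_mk (h : H) :
    qbar (R := R) K s ((L R H s).mkQ h) = (L K (K ⊗[R] H) s).mkQ ((1 : K) ⊗ₜ[R] h) := rfl

variable (ih : ∀ h : H, (1 : K) ⊗ₜ[R] h ∈ L K (K ⊗[R] H) s → h ∈ L R H s)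

include ih in
theorem qbar_injective : Function.Injective (qbar (R := R) K (H := H) s) := by
  rw [← LinearMap.ker_eq_bot, qbar, Submodule.ker_liftQ_eq_bot']
  apply le_antisymm (L_le_ker_toQ' K s)
  intro a ha
  rw [LinearMap.mem_ker, toQ'_apply, Submodule.mkQ_apply, Submodule.Quotient.mk_eq_zero] at ha
  exact ih a ha

/-- the comparison `H ⊗ Q' → (K ⊗ H) ⊗_K Q'` -/
noncomputable def E (x : H ⊗[R] Q' (R := R) K (H := H) s) :
    (K ⊗[R] H) ⊗[K] Q' (R := R) K (H := H) s :=
  (TensorProduct.comm K (K ⊗[R] H) (Q' (R := R) K (H := H) s)).symm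
    ((TensorProduct.AlgebraTensorModule.cancelBaseChange R K K (Q' (R := R) K (H := H) s) H).symm
      (TensorProduct.comm R H (Q' (R := R) K (H := H) s) x))

theorem E_add (x y : H ⊗[R] Q' (R := R) K (H := H) s) : E K s (x + y) = E K s x + E K s y := by
  simp only [E, map_add]

theorem E_zero : E (R := R) K (H := H) s 0 = 0 := by
  simp only [E, map_zero]

theorem E_tmul (a : H) (x : Q' (R := R) K (H := H) s) :
    E K s (a ⊗ₜ[R] x) = ((1 : K) ⊗ₜ[R] a) ⊗ₜ[K] x := by
  simp [E]

theorem E_injective : Function.Injective (E (R := R) K (H := H) s) := by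
  intro x y h
  simp only [E] at h
  exact (TensorProduct.comm R H _).injective
    ((TensorProduct.AlgebraTensorModule.cancelBaseChange R K K _ H).symm.injective
      ((TensorProduct.comm K (K ⊗[R] H) _).symm.injective h))

theorem E_nat (t : H ⊗[R] H) :
    E K s (LinearMap.lTensor H (qbar (R := R) K s) (LinearMap.lTensor H (L R H s).mkQ t)) =
      LinearMap.lTensor (K ⊗[R] H) (L K (K ⊗[R] H) s).mkQ (inclTT K t) := by
  induction t using TensorProduct.induction_on with
  | zero => simp only [map_zero, E_zero]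
  | tmul a b =>
    rw [LinearMap.lTensor_tmul, LinearMap.lTensor_tmul, qbar_mk, E_tmul, inclTT_tmul,
      LinearMap.lTensor_tmul]
  | add y z hy hz => simp only [map_add, E_add, hy, hz]

include ih in
theorem mem_range_of_inclTT {t : H ⊗[R] H}
    (ht : inclTT K t ∈ LinearMap.range (LinearMap.lTensor (K ⊗[R] H) (L K (K ⊗[R] H) s).subtype)) :
    t ∈ LinearMap.range (LinearMap.lTensor H (L R H s).subtype) := by
  have hex : Function.Exact (LinearMap.lTensor H (L R H s).subtype)
      (LinearMap.lTensor H (L R H s).mkQ) :=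
    lTensor_exact H (LinearMap.exact_subtype_mkQ (L R H s)) (Submodule.mkQ_surjective _)
  have hex' : Function.Exact (LinearMap.lTensor (K ⊗[R] H) (L K (K ⊗[R] H) s).subtype)
      (LinearMap.lTensor (K ⊗[R] H) (L K (K ⊗[R] H) s).mkQ) :=
    lTensor_exact (K ⊗[R] H) (LinearMap.exact_subtype_mkQ (L K (K ⊗[R] H) s))
      (Submodule.mkQ_surjective _)
  refine (hex t).mp ?_
  have h1 := (hex' (inclTT K t)).mpr ht
  rw [← E_nat] at h1
  have h2 := E_injective K s (h1.trans (E_zero K s).symm)
  have h3 : Function.Injective (LinearMap.lTensor H (qbar (R := R) K (H := H) s)) :=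
    Module.Flat.lTensor_preserves_injective_linearMap _ (qbar_injective K s ih)
  exact h3 (h2.trans (map_zero _).symm)

end Step

section Main
variable {R : Type u} [CommRing R] [IsDomain R] (K : Type u') [Field K] [Algebra R K]
  [IsFractionRing R K] {H : Type v} [CommRing H] [Bialgebra R H] [Module.Flat R H]

/-- saturation of the filtration -/
theorem mem_L_of_incl : ∀ (s : ℕ) (h : H), (1 : K) ⊗ₜ[R] h ∈ L K (K ⊗[R] H) s → h ∈ L R H s := by
  intro s
  induction s with
  | zero => exact fun h hh => mem_L_zero_of_incl K hh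
  | succ s ih =>
    intro h hh
    rw [mem_L_succ] at hh ⊢
    rw [δ_incl] at hh
    exact mem_range_of_inclTT K s ih hh

end Main

end Groth.Agent.Lib.Helper24.UnipSpec
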