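import Mathlib
import Groth.Agent.Lib.Helper24.UnipSpec.Fil
import Groth.Agent.Lib.Helper24.Unip.Coconn2
import Groth.Agent.Lib.Helper24.Unip.Soc

/-!
# Helper24 — over a field: unipotent iff the filtration `L` is exhaustive
-/

set_option autoImplicit false
universe u v

open TensorProduct HopfRep Coalgebra

namespace Groth.Agent.Lib.Helper24.UnipSpec

open Groth.Agent.Lib.Helper24.Unip.Coconn Groth.Agent.Lib.Helper24.Unip.Coconn2
  Groth.Agent.Lib.Helper24.Unip.Soc

section
variable {k : Type u} [Field k] {A : Type v} [CommRing A] [Bialgebra k A]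

theorem isUnipotent_of_iSup_L (htop : (⨆ s, L k A s) = ⊤) : IsUnipotent k A := by
  refine isUnipotent_of_filtration_tf (L k A) L_mono (L_zero k A) htop ?_
  intro f s hf a ha
  have h1 : comul (R := k) a = δ k A a + (1 : A) ⊗ₜ[k] a := by
    rw [δ_apply, sub_add_cancel]
  have h2 : cf f (δ k A a) = 0 := cf_eq_zero_of_mem_range (L k A s) f hf (mem_L_succ.mp ha)
  rw [tf_apply, h1, map_add, h2, zero_add, cf_tmul, L_zero]
  exact Submodule.smul_mem _ _ (Submodule.mem_span_singleton_self 1)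

theorem isUT_mem_L {n : ℕ} {c : Fin n → Fin n → A} (hc : IsUT (k := k) n c) :
    ∀ (r : ℕ) (i j : Fin n), (j : ℕ) ≤ i + r → c i j ∈ L k A r := by
  intro r
  induction r with
  | zero =>
    intro i j h
    rcases lt_or_eq_of_le (show (j : ℕ) ≤ i by omega) with hlt | heq
    · rw [hc.2.1 i j (Fin.lt_def.mpr hlt)]
      exact zero_mem _
    · have : j = i := Fin.ext heq
      rw [this, hc.2.2 i]
      exact one_mem_L 0
  | succ r ih =>
    intro i j h
    rw [mem_L_succ, δ_apply, hc.1 i j]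
    have h1 : (∑ l, c i l ⊗ₜ[k] c l j) - (1 : A) ⊗ₜ[k] c i j =
        ∑ l ∈ Finset.univ.erase i, c i l ⊗ₜ[k] c l j := by
      rw [← Finset.add_sum_erase Finset.univ _ (Finset.mem_univ i), hc.2.2 i, add_sub_cancel_left]
    rw [h1]
    apply Submodule.sum_mem
    intro l hl
    have hli : l ≠ i := Finset.ne_of_mem_erase hl
    by_cases hlt : l < i
    · rw [hc.2.1 i l hlt, TensorProduct.zero_tmul]
      exact zero_mem _
    · have h2 : (i : ℕ) < l := by
        have h3 := Fin.not_lt.mp hlt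
        have h4 : (i : ℕ) ≠ l := fun h => hli (Fin.ext h.symm)
        have h5 : (i : ℕ) ≤ l := h3
        omega
      exact ⟨c i l ⊗ₜ[k] (⟨c l j, ih l j (by omega)⟩ : L k A r), by simp⟩

theorem Cfil_le_L (r : ℕ) : Cfil k A r ≤ L k A r := by
  apply Submodule.span_le.mpr
  rintro a ⟨n, c, hc, i, j, h, rfl⟩
  exact isUT_mem_L hc r i j h

theorem iSup_L_eq_top_of_isUnipotent (hU : IsUnipotent k A) : (⨆ s, L k A s) = ⊤ := by
  rw [eq_top_iff, ← iSup_Cfil_eq_top hU]
  exact iSup_mono Cfil_le_L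

end

end Groth.Agent.Lib.Helper24.UnipSpec
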